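import Cfsg.Agent.MTwentyTwoCover.FourData
import Cfsg.Agent.MTwentyTwoCover.GenData

/-!
The checks on the voltage graph modulo four.
-/

set_option autoImplicit false

namespace CfsgLib.MTwentyTwoCover.FourData

theorem volt_ok : volt.ok = true := by decide +kernel

theorem lift_zero :
    volt.liftOK (genTables.getD 0 0) (lifts.getD 0 ⟨0, 0, []⟩) = true := by decide +kernel

theorem lift_one :
    volt.liftOK (genTables.getD 1 0) (lifts.getD 1 ⟨0, 0, []⟩) = true := by decide +kernel

theorem pair_ok : volt.pairOK lifts genTables wordPair = true := by decide +kernel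

end CfsgLib.MTwentyTwoCover.FourData
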