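import Cfsg.Agent.MTwentyTwoCover.ThreeChecks
import Cfsg.Agent.MTwentyTwoCover.FourChecks
import Cfsg.Agent.Mathieu.SmallOrders
import Cfsg.Agent.Mathieu.SmallSimple
import Mathlib.Data.ZMod.Basic
import Mathlib.GroupTheory.Commutator.Basic

/-!
# The twelvefold cover of the stabiliser of two points

The fibre product of the threefold and the fourfold cover given by voltage graphs.
-/

set_option autoImplicit false

namespace CfsgLib.MTwentyTwoCover

open Cfsg CfsgLib.Mathieu

/-- A table of a member of `Spor.M22`. -/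
def inM22 (t : ℕ) : Bool :=
  tableValid t && preservesCode t && app t 23 == 23 && app t 0 == 0

theorem inGroup_of_inM22 {t : ℕ} (h : inM22 t = true) : InGroup enc Spor.M22 t := by
  simp only [inM22, Bool.and_eq_true, beq_iff_eq] at h
  obtain ⟨τ, r⟩ := exists_rep_of_valid h.1.1.1
  exact ⟨τ, ⟨⟨mem_M24_of_table r h.1.1.2, r.apply_eq enc h.1.2⟩,
    r.apply_eq enc (x := (some 0 : GolayPt)) (y := (some 0 : GolayPt)) h.2⟩, r⟩

theorem genTables_inGroup : ∀ t ∈ genTables, InGroup enc Spor.M22 t := by
  have h : genTables.all inM22 = true := by decide +kernel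
  exact fun t ht => inGroup_of_inM22 (List.all_eq_true.1 h t ht)

/-- The two generators generate. -/
theorem le_of_gens {H : Subgroup (Equiv.Perm GolayPt)} (hle : H ≤ Spor.M22)
    (h : ∀ t ∈ genTables, InGroup enc H t) : Spor.M22 ≤ H := by
  have hg : ∀ t ∈ m22Gens, InGroup enc H t := by
    have hc : m22Gens.all (fun t => (slp 24 genTables genSteps).contains t) = true := by
      decide +kernel
    exact fun t ht => inGroup_slp enc genSteps genTables h t
      (List.contains_iff_mem.1 (List.all_eq_true.1 hc t ht))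
  have ok : reachChainOK m22Gens (m24Levels.drop 2) [pt 23, pt 0] m22Trees = true := by
    decide +kernel
  have hc : IsChain' H M24 (m24Levels.drop 2) [pt 23, pt 0] :=
    m24Levels_tail2.change _ _ (isReachChain_of_ok hg _ _ _ ok)
  rw [SporM22_eq]
  exact (hc.spec (hle.trans SporM22_le) _ _).1

instance : NeZero ThreeData.volt.n := ⟨by decide⟩
instance : NeZero FourData.volt.n := ⟨by decide⟩

/-- The threefold cover. -/
abbrev coverThree := ThreeData.volt.cover Spor.M22

/-- The fourfold cover. -/
abbrev coverFour := FourData.volt.cover Spor.M22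

/-- The fibre product. -/
def cover : Subgroup (↥coverThree × ↥coverFour) :=
  MonoidHom.eqLocus ((ThreeData.volt.proj Spor.M22).comp (MonoidHom.fst _ _))
    ((FourData.volt.proj Spor.M22).comp (MonoidHom.snd _ _))

/-- The projection. -/
def proj : ↥cover →* ↥Spor.M22 :=
  (ThreeData.volt.proj Spor.M22).comp ((MonoidHom.fst _ _).comp cover.subtype)

theorem proj_surjective_of {V : Volt} [NeZero V.n] (hok : V.ok = true) {D E : LiftData}
    (h0 : V.liftOK (genTables.getD 0 0) D = true) (h1 : V.liftOK (genTables.getD 1 0) E = true) :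
    Function.Surjective (V.proj Spor.M22) := by
  let H : Subgroup (Equiv.Perm GolayPt) := (V.proj Spor.M22).range.map Spor.M22.subtype
  have hlift : ∀ (t : ℕ) (D : LiftData), t ∈ genTables → V.liftOK t D = true → InGroup enc H t := by
    intro t D ht hD
    obtain ⟨σ, hσ, r⟩ := genTables_inGroup t ht
    obtain ⟨y, hy, -⟩ := Volt.exists_lift (D := D) hok hσ r hD
    exact ⟨σ, ⟨_, ⟨y, rfl⟩, hy⟩, r⟩
  have hH : Spor.M22 ≤ H := by
    refine le_of_gens (Subgroup.map_subtype_le _) fun t ht => ?_
    have hlen : genTables.length = 2 := by decide +kernel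
    obtain ⟨i, hi, rfl⟩ := List.getElem_of_mem ht
    rw [← List.getD_eq_getElem _ 0 hi]
    have hmem : genTables.getD i 0 ∈ genTables := by
      rw [List.getD_eq_getElem _ 0 hi]; exact List.getElem_mem hi
    rcases (show i = 0 ∨ i = 1 by omega) with rfl | rfl
    · exact hlift _ D hmem h0
    · exact hlift _ E hmem h1
  intro g
  obtain ⟨g', ⟨y, rfl⟩, hg'⟩ := hH g.2
  exact ⟨y, Subtype.ext hg'⟩

theorem surjective_three : Function.Surjective (ThreeData.volt.proj Spor.M22) :=
  proj_surjective_of ThreeData.volt_ok ThreeData.lift_zero ThreeData.lift_one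

theorem surjective_four : Function.Surjective (FourData.volt.proj Spor.M22) :=
  proj_surjective_of FourData.volt_ok FourData.lift_zero FourData.lift_one

theorem proj_surjective : Function.Surjective proj := by
  intro g
  obtain ⟨a, ha⟩ := surjective_three g
  obtain ⟨b, hb⟩ := surjective_four g
  exact ⟨⟨(a, b), ha.trans hb.symm⟩, ha⟩

theorem mem_ker {y : ↥cover} :
    y ∈ proj.ker ↔ y.1.1 ∈ (ThreeData.volt.proj Spor.M22).ker ∧
      y.1.2 ∈ (FourData.volt.proj Spor.M22).ker :=
  ⟨fun h => ⟨h, y.2.symm.trans h⟩, fun h => h.1⟩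

/-- The kernel as a product. -/
noncomputable def kerProdEquiv :
    (ThreeData.volt.proj Spor.M22).ker × (FourData.volt.proj Spor.M22).ker ≃* proj.ker where
  toFun c := ⟨⟨(c.1.1, c.2.1), c.1.2.trans c.2.2.symm⟩, c.1.2⟩
  invFun y := (⟨y.1.1.1, (mem_ker.1 y.2).1⟩, ⟨y.1.1.2, (mem_ker.1 y.2).2⟩)
  left_inv _ := rfl
  right_inv _ := rfl
  map_mul' _ _ := rfl

/-- The product of cyclic groups of orders three and four is cyclic. -/
noncomputable def twelveEquiv :
    Multiplicative (ZMod 3) × Multiplicative (ZMod 4) ≃* Multiplicative (ZMod 12) :=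
  (MulEquiv.prodMultiplicative _ _).symm.trans
    (AddEquiv.toMultiplicative (ZMod.chineseRemainder (by norm_num : Nat.Coprime 3 4)).toAddEquiv.symm)

/-- The kernel is cyclic of order twelve. -/
noncomputable def kerEquiv : proj.ker ≃* Multiplicative (ZMod 12) :=
  (kerProdEquiv.symm.trans ((Volt.kerEquiv ThreeData.volt_ok).symm.prodCongr
    (Volt.kerEquiv FourData.volt_ok).symm)).trans twelveEquiv

theorem ker_le_center : proj.ker ≤ Subgroup.center ↥cover := by
  intro z hz
  obtain ⟨h3, h4⟩ := mem_ker.1 hz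
  rw [Subgroup.mem_center_iff]
  intro g
  exact Subtype.ext (Prod.ext
    (Subgroup.mem_center_iff.1 (Volt.ker_le_center ThreeData.volt_ok h3) g.1.1)
    (Subgroup.mem_center_iff.1 (Volt.ker_le_center FourData.volt_ok h4) g.1.2))

theorem commutator_three :
    (ThreeData.volt.proj Spor.M22).ker ≤ commutator ↥coverThree :=
  Volt.ker_le_commutator ThreeData.volt_ok (L := ThreeData.lifts) genTables_inGroup rfl
    (fun p hp => by
      simp only [genTables, ThreeData.lifts, List.zip_cons_cons, List.zip_nil_right, List.mem_cons,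
        List.not_mem_nil, or_false] at hp
      rcases hp with rfl | rfl
      · exact ThreeData.lift_zero
      · exact ThreeData.lift_one)
    ThreeData.pair_ok

theorem commutator_four :
    (FourData.volt.proj Spor.M22).ker ≤ commutator ↥coverFour :=
  Volt.ker_le_commutator FourData.volt_ok (L := FourData.lifts) genTables_inGroup rfl
    (fun p hp => by
      simp only [genTables, FourData.lifts, List.zip_cons_cons, List.zip_nil_right, List.mem_cons,
        List.not_mem_nil, or_false] at hp
      rcases hp with rfl | rfl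
      · exact FourData.lift_zero
      · exact FourData.lift_one)
    FourData.pair_ok

theorem pow_three_eq_one {c : ↥coverThree} (hc : c ∈ (ThreeData.volt.proj Spor.M22).ker) :
    c ^ 3 = 1 := by
  have h := pow_card_eq_one' (x := (⟨c, hc⟩ : (ThreeData.volt.proj Spor.M22).ker))
  rw [← Nat.card_congr (Volt.kerEquiv ThreeData.volt_ok).toEquiv,
    Nat.card_congr Multiplicative.toAdd, Nat.card_zmod] at h
  exact congrArg Subtype.val h

theorem pow_four_eq_one {c : ↥coverFour} (hc : c ∈ (FourData.volt.proj Spor.M22).ker) :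
    c ^ 4 = 1 := by
  have h := pow_card_eq_one' (x := (⟨c, hc⟩ : (FourData.volt.proj Spor.M22).ker))
  rw [← Nat.card_congr (Volt.kerEquiv FourData.volt_ok).toEquiv,
    Nat.card_congr Multiplicative.toAdd, Nat.card_zmod] at h
  exact congrArg Subtype.val h

theorem ker_le_commutator : proj.ker ≤ commutator ↥cover := by
  intro z hz
  obtain ⟨h3, h4⟩ := mem_ker.1 hz
  let f3 : ↥cover →* ↥coverThree := (MonoidHom.fst _ _).comp cover.subtype
  let f4 : ↥cover →* ↥coverFour := (MonoidHom.snd _ _).comp cover.subtype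
  have s3 : Function.Surjective f3 := fun a => by
    obtain ⟨b, hb⟩ := surjective_four (ThreeData.volt.proj Spor.M22 a)
    exact ⟨⟨(a, b), hb.symm⟩, rfl⟩
  have s4 : Function.Surjective f4 := fun b => by
    obtain ⟨a, ha⟩ := surjective_three (FourData.volt.proj Spor.M22 b)
    exact ⟨⟨(a, b), ha⟩, rfl⟩
  have m3 : (commutator ↥cover).map f3 = commutator ↥coverThree := by
    simp only [commutator_def, Subgroup.map_commutator, Subgroup.map_top_of_surjective _ s3]
  have m4 : (commutator ↥cover).map f4 = commutator ↥coverFour := by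
    simp only [commutator_def, Subgroup.map_commutator, Subgroup.map_top_of_surjective _ s4]
  obtain ⟨x, hx, ex⟩ := m3.ge (commutator_three h3)
  obtain ⟨y, hy, ey⟩ := m4.ge (commutator_four h4)
  have ex' : x.1.1 = z.1.1 := ex
  have ey' : y.1.2 = z.1.2 := ey
  have hxk : x.1.2 ∈ (FourData.volt.proj Spor.M22).ker := (mem_ker.1 (show x ∈ proj.ker from by
    change ThreeData.volt.proj Spor.M22 x.1.1 = 1; rw [ex']; exact h3)).2
  have hyk : y.1.1 ∈ (ThreeData.volt.proj Spor.M22).ker := by
    change ThreeData.volt.proj Spor.M22 y.1.1 = 1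
    rw [show ThreeData.volt.proj Spor.M22 y.1.1 = FourData.volt.proj Spor.M22 y.1.2 from y.2, ey']
    exact h4
  have hzeq : z = x ^ 4 * y ^ 9 := by
    refine Subtype.ext (Prod.ext ?_ ?_)
    · change z.1.1 = x.1.1 ^ 4 * y.1.1 ^ 9
      rw [ex', pow_succ _ 3, pow_three_eq_one h3, one_mul, show 9 = 3 * 3 from rfl, pow_mul,
        pow_three_eq_one hyk, one_pow, mul_one]
    · change z.1.2 = x.1.2 ^ 4 * y.1.2 ^ 9
      rw [ey', pow_four_eq_one hxk, one_mul, pow_succ _ 8, show 8 = 4 * 2 from rfl, pow_mul,
        pow_four_eq_one h4, one_pow, one_mul]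
  rw [hzeq]
  exact mul_mem (pow_mem hx _) (pow_mem hy _)

theorem isStemExtension_proj : Cfsg.IsStemExtension proj :=
  ⟨proj_surjective, ker_le_center, ker_le_commutator⟩

end CfsgLib.MTwentyTwoCover
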