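/-!
Data: elements of orders 5, 7 and 11 of the stabiliser of two points.
-/

set_option autoImplicit false

namespace CfsgLib.MTwentyTwoCover

/-- Tables of elements of orders 5, 7, 11. -/
def cycTables : List Nat := [564828247844683904498963794981956284327179633818272795136, 565395479980239224933826668759904289703562673776988260096, 565594897436723350032618047422755097022420451327715117056]

end CfsgLib.MTwentyTwoCover
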