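import Cfsg.Agent.MTwelveCover.Bound

/-!
Data: a Sylow 3-subgroup of the stabiliser of two points with fusion, and the spanning certificate
bounding the 3-part of its Schur multiplier.
-/

set_option autoImplicit false
set_option maxRecDepth 4000

namespace CfsgLib.MTwentyTwoCover.SylowThree

open CfsgLib.Schur.Pc CfsgLib.MTwelveCover

/-- The presentation, fusions and equations. -/
def cert : Cert where
  p := 3
  n := 2
  rules := [([0, 0, 0], []), ([1, 1, 1], []), ([1, 0], [0, 1])]
  fus := []
  fusW := 1
  assoc := [([0, 0, 0, 0], (0, 0), (1, 0)), ([1, 1, 1, 0], (0, 1), (2, 2)), ([1, 0, 0, 0], (0, 2), (1, 0)), ([1, 1, 1, 1], (0, 1), (1, 1))]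
  fusEq := []
  eqs := [([0], [0]), ([1], [2, 2, 2, 1]), ([2, 2, 2, 0], [0]), ([1], [1])]
  e := 0
  adj := []
  combo := []
  fuel := 6

/-- The spanning certificate. -/
def span : Span where
  tgt := [0, 0, 1]
  sec := [[1, 0, 0], [0, 1, 0]]
  alpha := [0, 0, 1]
  beta := [[1, 0], [0, 1], [0, 0]]
  combo := [[], [], []]
  sq := [(1, (-1))]
  D := 9
  Q := [[3, 0], [0, 3]]

/-- Tables of the generators. -/
def gens : List ℕ := [564541298029107577845712942422840228925018365656809214976, 564059772746001408799468359247611719685533048717525911296]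

/-- Tables of the conjugating elements. -/
def conjs : List ℕ := []

/-- Base positions. -/
def base : List ℕ := [1]

end CfsgLib.MTwentyTwoCover.SylowThree
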