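import Cfsg.Agent.MTwelveCover.Bound

/-!
Data: a Sylow 2-subgroup of the stabiliser of two points with fusion, and the spanning certificate
bounding the 2-part of its Schur multiplier.
-/

set_option autoImplicit false
set_option maxRecDepth 4000

namespace CfsgLib.MTwentyTwoCover.SylowTwo

open CfsgLib.Schur.Pc CfsgLib.MTwelveCover

/-- The presentation, fusions and equations. -/
def cert : Cert where
  p := 2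
  n := 7
  rules := [([0, 0], []), ([1, 1], []), ([2, 2], []), ([3, 3], []), ([4, 4], []), ([5, 5], []), ([6, 6], []), ([1, 0], [0, 1, 2, 6]), ([2, 0], [0, 2]), ([3, 0], [0, 3, 6]), ([4, 0], [0, 4, 5]), ([5, 0], [0, 5]), ([6, 0], [0, 6]), ([2, 1], [1, 2]), ([3, 1], [1, 3, 4, 6]), ([4, 1], [1, 4]), ([5, 1], [1, 5, 6]), ([6, 1], [1, 6]), ([3, 2], [2, 3, 5, 6]), ([4, 2], [2, 4, 6]), ([5, 2], [2, 5]), ([6, 2], [2, 6]), ([4, 3], [3, 4]), ([5, 3], [3, 5]), ([6, 3], [3, 6]), ([5, 4], [4, 5]), ([6, 4], [4, 6]), ([6, 5], [5, 6])]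
  fus := [([[1], [4]], [[5, 6], [3, 4, 5]]), ([[2, 5], [0, 2, 6]], [[3, 4, 5], [3, 5]])]
  fusW := 2
  assoc := [([0, 0, 0], (0, 0), (1, 0)), ([1, 1, 0], (0, 1), (1, 7)), ([1, 0, 0], (0, 7), (1, 0)), ([2, 1, 0], (0, 13), (1, 7)), ([3, 1, 0], (0, 14), (1, 7)), ([4, 1, 0], (0, 15), (1, 7)), ([5, 1, 0], (0, 16), (1, 7)), ([6, 1, 0], (0, 17), (1, 7)), ([2, 2, 0], (0, 2), (1, 8)), ([2, 0, 0], (0, 8), (1, 0)), ([3, 2, 0], (0, 18), (1, 8)), ([4, 2, 0], (0, 19), (1, 8)), ([5, 2, 0], (0, 20), (1, 8)), ([6, 2, 0], (0, 21), (1, 8)), ([3, 3, 0], (0, 3), (1, 9)), ([3, 0, 0], (0, 9), (1, 0)), ([4, 3, 0], (0, 22), (1, 9)), ([5, 3, 0], (0, 23), (1, 9)), ([6, 3, 0], (0, 24), (1, 9)), ([4, 4, 0], (0, 4), (1, 10)), ([4, 0, 0], (0, 10), (1, 0)), ([5, 4, 0], (0, 25), (1, 10)), ([6, 4, 0], (0, 26), (1, 10)), ([5, 5, 0], (0, 5), (1, 11)),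 ([5, 0, 0], (0, 11), (1, 0)), ([6, 5, 0], (0, 27), (1, 11)), ([6, 6, 0], (0, 6), (1, 12)), ([6, 0, 0], (0, 12), (1, 0)), ([1, 1, 1], (0, 1), (1, 1)), ([2, 2, 1], (0, 2), (1, 13)), ([2, 1, 1], (0, 13), (1, 1)), ([3, 2, 1], (0, 18), (1, 13)), ([4, 2, 1], (0, 19), (1, 13)), ([5, 2, 1], (0, 20), (1, 13)), ([6, 2, 1], (0, 21), (1, 13)), ([3, 3, 1], (0, 3), (1, 14)), ([3, 1, 1], (0, 14), (1, 1)), ([4, 3, 1], (0, 22), (1, 14)), ([5, 3, 1], (0, 23), (1, 14)), ([6, 3, 1], (0, 24), (1, 14)), ([4, 4, 1], (0, 4), (1, 15)), ([4, 1, 1], (0, 15), (1, 1)), ([5, 4, 1], (0, 25), (1, 15)), ([6, 4, 1], (0, 26), (1, 15)), ([5, 5, 1], (0, 5), (1, 16)), ([5, 1, 1], (0, 16), (1, 1)), ([6, 5, 1], (0, 27), (1, 16)), ([6, 6, 1], (0, 6), (1, 17)), ([6, 1, 1], (0, 17), (1, 1)), ([2, 2, 2], (0, 2), (1, 2)), ([3, 3, 2], (0, 3), (1, 18)), ([3, 2, 2],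 (0, 18), (1, 2)), ([4, 3, 2], (0, 22), (1, 18)), ([5, 3, 2], (0, 23), (1, 18)), ([6, 3, 2], (0, 24), (1, 18)), ([4, 4, 2], (0, 4), (1, 19)), ([4, 2, 2], (0, 19), (1, 2)), ([5, 4, 2], (0, 25), (1, 19)), ([6, 4, 2], (0, 26), (1, 19)), ([5, 5, 2], (0, 5), (1, 20)), ([5, 2, 2], (0, 20), (1, 2)), ([6, 5, 2], (0, 27), (1, 20)), ([6, 6, 2], (0, 6), (1, 21)), ([6, 2, 2], (0, 21), (1, 2)), ([3, 3, 3], (0, 3), (1, 3)), ([4, 4, 3], (0, 4), (1, 22)), ([4, 3, 3], (0, 22), (1, 3)), ([5, 4, 3], (0, 25), (1, 22)), ([6, 4, 3], (0, 26), (1, 22)), ([5, 5, 3], (0, 5), (1, 23)), ([5, 3, 3], (0, 23), (1, 3)), ([6, 5, 3], (0, 27), (1, 23)), ([6, 6, 3], (0, 6), (1, 24)), ([6, 3, 3], (0, 24), (1, 3)), ([4, 4, 4], (0, 4), (1, 4)), ([5, 5, 4], (0, 5), (1, 25)), ([5, 4, 4], (0, 25), (1, 4)), ([6, 5, 4], (0, 27), (1, 25)), ([6, 6, 4], (0, 6), (1,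 26)), ([6, 4, 4], (0, 26), (1, 4)), ([5, 5, 5], (0, 5), (1, 5)), ([6, 6, 5], (0, 6), (1, 27)), ([6, 5, 5], (0, 27), (1, 5)), ([6, 6, 6], (0, 6), (1, 6))]
  fusEq := [(0, [0, 0], []), (0, [1, 1], []), (0, [1, 0], [0, 1]), (1, [0, 0], []), (1, [1, 1], []), (1, [1, 0], [0, 1])]
  eqs := [([0], [0]), ([1], [7, 7, 17, 13, 1, 21, 2, 6]), ([7, 12, 8, 7, 0, 21, 2, 6], [0]), ([13, 8, 7, 21, 2], [7, 8, 13, 2]), ([14, 12, 10, 9, 7, 24, 6], [7, 9, 17, 14, 6, 19, 18, 26, 25, 6]), ([15, 10, 7, 26, 27], [7, 10, 16, 15, 21, 20, 19, 27, 6]), ([16, 12, 11, 7, 27, 6], [7, 11, 16, 21, 20, 6]), ([17, 12, 7, 6], [7, 12, 17, 21, 6]), ([2], [8, 8, 2]), ([8, 8, 0], [0]), ([18, 12, 11, 9, 8, 27, 6], [8, 9, 21, 18, 6]), ([19, 12, 10, 8], [8, 10, 20, 19, 27]), ([20, 11, 8], [8, 11, 20]), ([21, 12, 8], [8, 12, 21]), ([3], [9, 9, 24, 3, 6]), ([9,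 12, 9, 0, 6], [0]), ([22, 10, 9, 26, 27], [9, 10, 23, 22]), ([23, 11, 9, 27], [9, 11, 23]), ([24, 12, 9, 6], [9, 12, 24, 6]), ([4], [10, 10, 25, 4, 5]), ([10, 11, 10, 0, 5], [0]), ([25, 11, 10, 5], [10, 11, 25, 5]), ([26, 12, 10], [10, 12, 26, 27]), ([5], [11, 11, 5]), ([11, 11, 0], [0]), ([27, 12, 11], [11, 12, 27]), ([6], [12, 12, 6]), ([12, 12, 0], [0]), ([1], [1]), ([2], [13, 13, 2]), ([13, 13, 1], [1]), ([18, 17, 16, 14, 13, 27, 6], [13, 14, 21, 19, 18, 26, 25, 6]), ([19, 17, 15, 13], [13, 15, 19]), ([20, 16, 13], [13, 16, 21, 20]), ([21, 17, 13], [13, 17, 21]), ([3], [14, 14, 24, 22, 3, 26, 4, 6]), ([14, 17, 15, 14, 1, 26, 4, 6], [1]), ([22, 15, 14, 26, 4], [14, 15, 22, 4]), ([23, 16, 14, 27, 6], [14, 16, 24, 23, 26, 25, 6]), ([24, 17, 14, 6], [14, 17, 24, 26, 6]), ([4], [15, 15, 4]), ([15, 15, 1], [1]), ([25,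 16, 15], [15, 16, 26, 25]), ([26, 17, 15], [15, 17, 26]), ([5], [16, 16, 27, 5, 6]), ([16, 17, 16, 1, 6], [1]), ([27, 17, 16, 6], [16, 17, 27, 6]), ([6], [17, 17, 6]), ([17, 17, 1], [1]), ([2], [2]), ([3], [18, 18, 24, 23, 3, 27, 5, 6]), ([18, 21, 20, 18, 2, 27, 5, 6], [2]), ([22, 19, 18, 26, 25, 6], [18, 19, 24, 22, 27, 6]), ([23, 20, 18, 27, 5], [18, 20, 23, 5]), ([24, 21, 18, 6], [18, 21, 24, 27, 6]), ([4], [19, 19, 26, 4, 6]), ([19, 21, 19, 2, 6], [2]), ([25, 20, 19, 27], [19, 20, 25]), ([26, 21, 19, 6], [19, 21, 26, 6]), ([5], [20, 20, 5]), ([20, 20, 2], [2]), ([27, 21, 20], [20, 21, 27]), ([6], [21, 21, 6]), ([21, 21, 2], [2]), ([3], [3]), ([4], [22, 22, 4]), ([22, 22, 3], [3]), ([25, 23, 22], [22, 23, 25]), ([26, 24, 22], [22, 24, 26]), ([5], [23, 23, 5]), ([23, 23, 3], [3]), ([27, 24, 23], [23, 24, 27]), ([6],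 [24, 24, 6]), ([24, 24, 3], [3]), ([4], [4]), ([5], [25, 25, 5]), ([25, 25, 4], [4]), ([27, 26, 25], [25, 26, 27]), ([6], [26, 26, 6]), ([26, 26, 4], [4]), ([5], [5]), ([6], [27, 27, 6]), ([27, 27, 5], [5]), ([6], [6]), ([27, 5, 6, 28, 28], [1]), ([23, 22, 3, 25, 4, 5, 29, 29], [4]), ([5, 29, 28], [24, 23, 26, 25, 27, 5, 28, 29, 15]), ([23, 22, 3, 25, 4, 5, 30, 30], [20, 2, 5]), ([23, 3, 5, 31, 31], [12, 8, 0, 21, 2, 6]), ([23, 3, 25, 5, 31, 30, 11, 8, 20, 2], [23, 22, 3, 5, 30, 31, 21, 2, 27])]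
  e := 0
  adj := []
  combo := []
  fuel := 12

/-- The spanning certificate. -/
def span : Span where
  tgt := [0, 0, 0, 0, 0, 0, 0, 0, 0, 1, 0, 0, 0, 0, 0, 0, -1, 0, 0, 0, 0, 0, 0, 0, 0, 0, 0, 0, 0, 0, 0, 0]
  sec := [[1, 0, 0, 0, 0, 0, 0, 0, 0, 0, 0, 0, 0, 0, 0, 0, 0, 0, 0, 0, 0, 0, 0, 0, 0, 0, 0, 0, 0, 0, 0, 0], [0, 1, 0, 0, 0, 0, 0, 0, 0, 0, 0, 0, 0, 0, 0, 0, 0, 0, 0, 0, 0, 0, 0, 0, 0, 0, 0, 0, 0, 0, 0, 0], [0, 0, 1, 0, 0, 0, 0, 1, 0, 0, 0, 0, 0, 0, 0, 0, 0, 0, 0, 0, 0, 0, 0, 0, 0, 0, 0, 0, 0, 0, 0, 0], [0, 0, 0, 1, 0, 0, 0, 0, 0, 0, 0, 0, 0, 0, 0, 0, 0, 0, 0, 0, 0, 0, 0, 0, 0, 0, 0, 0, 0, 0, 0, 0], [0, 0, 0, 0, 1, 0, 0, 0, 0, 0, 0, 0, 0, 0, 1, 0, 0, 0, 0, 0, 0, 0, 0, 0, 0, 0, 0, 0, 0, 0, 0, 0], [0, 0, 0, 0, 0, 1, 0, 0, 0, 0, 1, 0, 0, 0, 0, 0, 0, 0, 0, 0, 0, 0, 0, 0, 0, 0, 0, 0, 0, 0, 0, 0], [0, 0, 0, 0, 0, 0,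 1, 0, 0, 1, 0, 0, 0, 0, 0, 0, 0, 0, 0, 0, 0, 0, 0, 0, 0, 0, 0, 0, 0, 0, 0, 0]]
  alpha := [0, 0, 0, 0, 2, 2, 2, 0, 0, 2, 2, 2, 2, 2, 2, 0, 1, 0, 3, 3, 2, 0, 2, 0, 2, 2, 0, 0]
  beta := [[1, 0, 0, 0, 0, 0, 0], [0, 1, 0, 0, 0, 0, 0], [0, 0, 2, 0, 0, 0, 2], [0, 0, 0, 1, 0, 0, 0], [0, 0, 0, 0, 2, 0, 2], [0, 0, 0, 0, 0, 2, 0], [0, 0, 0, 0, 0, 0, 2], [0, 0, -1, 0, 0, 0, -2], [0, 0, 0, 0, 0, 0, 0], [0, 0, 0, 0, 0, 0, -1], [0, 0, 0, 0, 0, -1, 0], [0, 0, 0, 0, 0, 0, 0], [0, 0, 0, 0, 0, 0, 0], [0, 0, 0, 0, 0, 0, 0], [0, 0, 0, 0, -1, 0, -2], [0, 0, 0, 0, 0, 0, 0], [0, 0, 0, 0, 0, 0, -1], [0, 0, 0, 0, 0, 0, 0], [0, 0, 0, 0, 0, -1, -1], [0, 0, 0, 0, 0, 0, -1], [0, 0, 0, 0, 0, 0, 0], [0, 0, 0, 0, 0, 0, 0], [0, 0, 0, 0, 0, 0, 0], [0, 0, 0, 0, 0, 0, 0], [0, 0, 0, 0, 0, 0, 0], [0, 0, 0, 0, 0, 0, 0], [0, 0, 0, 0, 0, 0, 0], [0, 0, 0, 0,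 0, 0, 0]]
  combo := [[], [], [(2, (-1)), (3, 4), (6, 1), (10, 1), (15, (-1)), (16, (-1)), (17, 1), (23, 1), (32, 1), (35, (-1)), (36, (-1)), (37, 2), (40, (-1)), (86, 1), (89, 1)], [], [(3, 3), (5, (-1)), (6, 1), (10, 2), (14, (-1)), (15, (-3)), (16, (-1)), (17, (-2)), (19, (-2)), (20, (-2)), (31, 1), (36, (-1)), (37, 5), (40, (-1)), (86, 1)], [(3, 1), (5, (-1)), (6, 1), (15, (-1)), (17, (-2)), (19, (-1)), (20, (-2)), (23, (-1)), (31, 1), (32, (-1)), (37, 2)], [(3, 2), (5, (-1)), (6, 1), (10, 1), (15, (-2)), (17, (-3)), (19, (-1)), (20, (-1)), (31, 1), (32, (-1)), (37, 2)], [(2, 1), (3, (-4)), (6, (-1)), (10, (-1)), (15, 1), (16, 1), (17, (-1)), (23, (-1)), (32, (-1)), (35, 1), (36, 1), (37, (-2)), (40, 1), (86, (-1)), (89, (-1))], [(3, 1), (6, 1), (10, (-1)), (16, (-1)), (17, 3), (32, 1), (35, (-1)), (36, (-1)), (37,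 2), (40, (-1)), (86, 1), (89, 1)], [(5, (-1)), (6, 1), (10, (-1)), (17, (-1)), (19, (-1)), (20, (-1)), (23, (-1)), (31, 1), (32, (-1)), (37, 2)], [(3, 1), (5, (-1)), (6, 1), (15, (-1)), (17, (-2)), (19, (-1)), (31, 1), (32, (-1)), (37, 2)], [(3, 1), (5, (-1)), (6, 1), (15, (-1)), (17, (-2)), (19, (-1)), (20, (-1)), (23, (-1)), (31, 1), (32, (-1)), (37, 2)], [(3, 2), (5, (-1)), (6, 1), (10, 1), (15, (-1)), (17, (-3)), (19, (-1)), (20, (-1)), (31, 1), (32, (-1)), (37, 2)], [(1, (-1)), (2, (-1)), (3, 3), (5, (-1)), (6, 2), (15, (-1)), (16, (-1)), (19, (-1)), (20, (-1)), (31, 1), (32, (-1)), (35, (-1)), (36, (-1)), (37, 4), (40, (-1)), (86, 1), (89, 1)], [(3, (-1)), (5, (-1)), (6, 1), (10, (-2)), (14, 1), (15, 1), (16, 1), (17, (-2)), (23, (-1)), (31, 1), (32, (-2)), (36, 1), (37, (-1)), (40, 1), (86, (-1))], [(3, 1), (10,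 1), (14, (-1)), (15, (-1)), (16, (-1)), (17, 1), (19, (-1)), (20, (-1)), (37, 2), (40, (-1)), (86, 1)], [(5, (-1)), (6, 1), (10, (-1)), (17, (-1)), (19, (-1)), (20, (-1)), (23, (-1)), (31, 1), (32, (-1)), (37, 2)], [(32, 1)], [(3, 4), (4, (-1)), (5, (-1)), (6, 1), (10, 2), (14, (-1)), (15, (-2)), (17, (-5)), (19, (-1)), (23, 1), (31, 2), (32, (-3)), (37, 2)], [(5, (-2)), (6, 2), (10, (-1)), (15, (-1)), (17, (-2)), (19, (-1)), (20, (-1)), (23, (-1)), (31, 1), (32, (-1)), (37, 3)], [(3, 1), (5, (-1)), (10, 1), (15, (-1)), (17, (-2)), (19, (-1)), (20, (-1)), (31, 1), (32, (-1)), (37, 2)], [(3, 1)], [(3, 1), (5, (-1)), (6, 1), (15, (-1)), (16, (-1)), (19, (-2)), (20, (-2)), (23, (-1)), (31, 1), (35, (-1)), (36, (-1)), (37, 4), (40, (-1)), (86, 1)], [(16, (-1)), (17, 1), (37, 1)], [(3, 2), (5, (-1)), (6, 1), (10, 1), (14,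 (-1)), (15, (-2)), (17, (-3)), (19, (-1)), (20, (-1)), (31, 1), (32, (-1)), (37, 2)], [(3, 1), (5, (-1)), (6, 1), (15, (-1)), (17, (-2)), (19, (-2)), (20, (-2)), (23, (-1)), (31, 1), (32, (-1)), (37, 2)], [(37, 1)], [(17, 1)]]
  sq := [(3, (-2)), (5, 2), (6, (-2)), (15, 2), (17, 4), (19, 2), (20, 2), (23, 1), (31, (-2)), (32, 2), (37, (-4))]
  D := 8
  Q := [[4, 0, 0, 0, 0, 0, 0], [0, 4, 0, 0, 0, 0, 0], [0, 0, 8, 0, 0, 0, 8], [0, 0, 0, 4, 0, 0, 0], [0, 0, 0, 0, 8, 0, 8], [0, 0, 0, 0, 0, 8, 0], [0, 0, 0, 0, 0, 0, 8]]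

/-- Tables of the generators. -/
def gens : List ℕ := [566066309226041948793462908051027622571002864118458026496, 564246105407094817025099820341795690072976179210712519936, 566068929669910864067155147642213204591833379647137254656, 564437662919459576793931985672532449210829485545407780096, 564246100965477960637982682594703467372844168695803417856, 566071902346936600850858545196107141928967939180592567296, 566065939500471984132436067736383321930230337851150177536]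

/-- Tables of the conjugating elements. -/
def conjs : List ℕ := [564539811716418667165072104203678513350501768198979060736, 565110376120976482722794865443181716517496032330550477056]

/-- Base positions. -/
def base : List ℕ := [1, 2]

end CfsgLib.MTwentyTwoCover.SylowTwo
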