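import Cfsg.Agent.Mathieu.Tables
import Cfsg.Agent.Schur.Collect
import Cfsg.Prelude.Def_KGroupFacts
import Mathlib.Data.Fintype.Prod
import Mathlib.Data.ZMod.Basic
import Mathlib.GroupTheory.Abelianization.Defs
import Mathlib.Algebra.Group.Subgroup.Finite

/-!
# Cyclic covers from voltage graphs

A group acting on objects (pairs of point sets) and preserving a connected orbital with voltages in
`ZMod n` up to a shift at each object: the pairs (element, shift function) form a central extension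
with kernel `ZMod n`.
-/

set_option autoImplicit false

namespace CfsgLib.MTwentyTwoCover

open Cfsg CfsgLib.Mathieu

/-- The data of a voltage graph: packed keys of objects, rows of neighbours with voltages, and for
each object a slot leading to smaller depth. -/
structure Volt where
  n : ℕ
  m : ℕ
  k : ℕ
  keys : List (List ℕ)
  rows : List (List ℕ)
  up : ℕ
  depth : ℕ

/-- Packed data of the action of one element: images of objects, shifts and slot maps. -/
structure LiftData where
  P : ℕ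
  S : ℕ
  J : List (List ℕ)

/-- Entry of a table in chunks of 32. -/
def getT (L : List (List ℕ)) (x : ℕ) : ℕ := (L.getD (x / 32) []).getD (x % 32) 0

/-- Neighbour in a slot of a row. -/
def nbOf (row j : ℕ) : ℕ := (row >>> (16 * j)) % 2048

/-- Voltage in a slot of a row. -/
def vlOf (row j : ℕ) : ℕ := (row >>> (16 * j + 11)) % 32

namespace LiftData

/-- Image of an object. -/
def img (D : LiftData) (x : ℕ) : ℕ := (D.P >>> (11 * x)) % 2048

/-- Shift at an object. -/
def shift (D : LiftData) (x : ℕ) : ℕ := (D.S >>> (2 * x)) % 4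

end LiftData

namespace Volt

variable (V : Volt)

/-- Depth of an object. -/
def dep (x : ℕ) : ℕ := (V.depth >>> (4 * x)) % 16

/-- Slot leading down. -/
def upSlot (x : ℕ) : ℕ := (V.up >>> (6 * x)) % 64

/-- The checks on the graph. -/
def ok : Bool :=
  Nat.blt 0 V.m && Nat.blt 1 V.n &&
    allBelow V.m fun x =>
      Nat.blt (getT V.keys x) (2 ^ 48) &&
      (x + 1 == V.m || Nat.blt (getT V.keys x) (getT V.keys (x + 1))) &&
      allBelow V.k (fun j => Nat.blt (nbOf (getT V.rows x) j) V.m &&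
        (j + 1 == V.k || Nat.blt (nbOf (getT V.rows x) j) (nbOf (getT V.rows x) (j + 1)))) &&
      (x == 0 || (Nat.blt (V.upSlot x) V.k &&
        Nat.blt (V.dep (nbOf (getT V.rows x) (V.upSlot x))) (V.dep x)))

/-- The check of one slot. -/
def slotOK (D : LiftData) (row row' J sx j : ℕ) : Bool :=
  Nat.blt ((J >>> (6 * j)) % 64) V.k &&
    nbOf row' ((J >>> (6 * j)) % 64) == D.img (nbOf row j) &&
    (vlOf row' ((J >>> (6 * j)) % 64) + sx) % V.n == (vlOf row j + D.shift (nbOf row j)) % V.n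

/-- The check of one object. -/
def objOK (t : ℕ) (D : LiftData) (x : ℕ) : Bool :=
  Nat.blt (D.img x) V.m &&
    push t 24 (getT V.keys x % 2 ^ 24) == getT V.keys (D.img x) % 2 ^ 24 &&
    push t 24 (getT V.keys x / 2 ^ 24) == getT V.keys (D.img x) / 2 ^ 24 &&
    allBelow V.k (fun j =>
      V.slotOK D (getT V.rows x) (getT V.rows (D.img x)) (getT D.J x) (D.shift x) j)

/-- The checks on a lift. -/
def liftOK (t : ℕ) (D : LiftData) : Bool := allBelow V.m (V.objOK t D)

/-- An object. -/
def obj (x : Fin V.m) : Finset GolayPt × Finset GolayPt :=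
  (setOf24 (getT V.keys x.1 % 2 ^ 24), setOf24 (getT V.keys x.1 / 2 ^ 24))

/-- The action on objects. -/
def act (g : Equiv.Perm GolayPt) (o : Finset GolayPt × Finset GolayPt) :
    Finset GolayPt × Finset GolayPt := (o.1.image g, o.2.image g)

theorem act_mul (g h : Equiv.Perm GolayPt) (o : Finset GolayPt × Finset GolayPt) :
    act (g * h) o = act g (act h o) := by
  simp [act, Finset.image_image, Function.comp_def]

theorem act_one (o : Finset GolayPt × Finset GolayPt) : act 1 o = o := by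
  simp [act]

theorem act_injective (g : Equiv.Perm GolayPt) : Function.Injective (act g) := fun a b h => by
  have := congrArg (act g⁻¹) h
  simpa [← act_mul, act_one] using this

/-- An element together with a shift function preserving the voltages. -/
def Good [NeZero V.n] (g : Equiv.Perm GolayPt) (π : Equiv.Perm (Fin V.m × ZMod V.n)) : Prop :=
  (∀ x a, π (x, a) = ((π (x, 0)).1, (π (x, 0)).2 + a)) ∧
    (∀ x, V.obj (π (x, 0)).1 = act g (V.obj x)) ∧
      ∀ x : Fin V.m, ∀ j < V.k, ∀ y : Fin V.m, y.1 = nbOf (getT V.rows x.1) j →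
        ∃ j' < V.k, nbOf (getT V.rows (π (x, 0)).1.1) j' = (π (y, 0)).1.1 ∧
          (vlOf (getT V.rows (π (x, 0)).1.1) j' : ZMod V.n) + (π (x, 0)).2 =
            (vlOf (getT V.rows x.1) j : ZMod V.n) + (π (y, 0)).2

variable [NeZero V.n]

theorem good_one : V.Good 1 1 :=
  ⟨fun x a => by simp, fun x => (act_one _).symm, fun x j hj y hy => ⟨j, hj, hy.symm, by simp⟩⟩

theorem good_mul {g h : Equiv.Perm GolayPt} {π ρ : Equiv.Perm (Fin V.m × ZMod V.n)}
    (hg : V.Good g π) (hh : V.Good h ρ) : V.Good (g * h) (π * ρ) := by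
  obtain ⟨g1, g2, g3⟩ := hg
  obtain ⟨h1, h2, h3⟩ := hh
  have key : ∀ x a, (π * ρ) (x, a) =
      ((π ((ρ (x, 0)).1, 0)).1, (π ((ρ (x, 0)).1, 0)).2 + ((ρ (x, 0)).2 + a)) := fun x a => by
    rw [Equiv.Perm.mul_apply, h1, g1]
  refine ⟨fun x a => ?_, fun x => ?_, fun x j hj y hy => ?_⟩
  · rw [key, key x 0, add_zero, add_assoc]
  · rw [key, g2, h2, ← act_mul]
  · obtain ⟨j', hj', e1, e2⟩ := h3 x j hj y hy
    obtain ⟨j'', hj'', f1, f2⟩ := g3 _ j' hj' _ e1.symm
    refine ⟨j'', hj'', ?_, ?_⟩
    · rw [key, key]; exact f1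
    · rw [key, key]
      simp only [add_zero]
      linear_combination f2 + e2

/-- The cover of a subgroup. -/
def cover (H : Subgroup (Equiv.Perm GolayPt)) :
    Subgroup (↥H × Equiv.Perm (Fin V.m × ZMod V.n)) where
  carrier := {x | V.Good (x.1 : Equiv.Perm GolayPt) x.2}
  one_mem' := V.good_one
  mul_mem' ha hb := V.good_mul ha hb
  inv_mem' := by
    intro x hx
    have hpow : ∀ n : ℕ, V.Good ((x ^ n).1 : Equiv.Perm GolayPt) (x ^ n).2 := by
      intro n
      induction n with
      | zero => exact V.good_one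
      | succ n ih => rw [pow_succ]; exact V.good_mul ih hx
    obtain ⟨n, hn⟩ : ∃ n : ℕ, x ^ n = x⁻¹ := by
      have : x⁻¹ ∈ Subgroup.zpowers x := inv_mem (Subgroup.mem_zpowers x)
      rw [← mem_powers_iff_mem_zpowers, Submonoid.mem_powers_iff] at this
      exact this
    exact hn ▸ hpow n

/-- The projection. -/
def proj (H : Subgroup (Equiv.Perm GolayPt)) : ↥(V.cover H) →* ↥H :=
  (MonoidHom.fst _ _).comp (V.cover H).subtype

variable {V}

omit [NeZero V.n] in
theorem keys_lt (hok : V.ok = true) {x : ℕ} (hx : x < V.m) : getT V.keys x < 2 ^ 48 := by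
  simp only [ok, Bool.and_eq_true, allBelow_iff, Nat.blt_eq] at hok
  exact (hok.2 x hx).1.1.1

omit [NeZero V.n] in
theorem obj_injective (hok : V.ok = true) : Function.Injective V.obj := by
  have hlt := fun x hx => keys_lt (x := x) hok hx
  simp only [ok, Bool.and_eq_true, allBelow_iff, Nat.blt_eq, Bool.or_eq_true, beq_iff_eq] at hok
  have hstep : ∀ x, x + 1 < V.m → getT V.keys x < getT V.keys (x + 1) := fun x hx =>
    ((hok.2 x (by omega)).1.1.2).resolve_left (by omega)
  have hmono : ∀ d x, x + d + 1 < V.m → getT V.keys x < getT V.keys (x + d + 1) := by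
    intro d
    induction d with
    | zero => exact hstep
    | succ d ih =>
      intro x hx
      exact (ih x (by omega)).trans (hstep _ (by omega))
  intro x y h
  simp only [obj, Prod.mk.injEq] at h
  have h1 := setOf24_inj (Nat.mod_lt _ (by norm_num)) (Nat.mod_lt _ (by norm_num)) h.1
  have h2 := setOf24_inj ((Nat.div_lt_iff_lt_mul (by norm_num)).2 (by
      rw [← pow_add]; exact hlt x x.2)) ((Nat.div_lt_iff_lt_mul (by norm_num)).2 (by
      rw [← pow_add]; exact hlt y y.2)) h.2
  have hk : getT V.keys x.1 = getT V.keys y.1 := by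
    rw [← Nat.div_add_mod (getT V.keys x.1) (2 ^ 24), ← Nat.div_add_mod (getT V.keys y.1) (2 ^ 24),
      h1, h2]
  rcases lt_trichotomy x.1 y.1 with hlt' | he | hlt'
  · have := hmono (y.1 - x.1 - 1) x.1 (by omega)
    rw [show x.1 + (y.1 - x.1 - 1) + 1 = y.1 by omega] at this
    omega
  · exact Fin.ext he
  · have := hmono (x.1 - y.1 - 1) y.1 (by omega)
    rw [show y.1 + (x.1 - y.1 - 1) + 1 = x.1 by omega] at this
    omega

/-- The checks give a lift of an element. -/
theorem exists_lift {H : Subgroup (Equiv.Perm GolayPt)} (hok : V.ok = true) {σ : Equiv.Perm GolayPt}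
    (hσ : σ ∈ H) {t : ℕ} (r : Rep enc σ t) {D : LiftData} (h : V.liftOK t D = true) :
    ∃ y : ↥(V.cover H), y.1.1.1 = σ ∧
      ∀ (x : Fin V.m) a, (y.1.2 (x, a)).1.1 = D.img x ∧
        (y.1.2 (x, a)).2 = (D.shift x : ZMod V.n) + a := by
  simp only [liftOK, objOK, slotOK, allBelow_iff, Bool.and_eq_true, Nat.blt_eq, beq_iff_eq] at h
  let P : Fin V.m → Fin V.m := fun x => ⟨D.img x, (h x x.2).1.1.1⟩
  have hobj : ∀ x, V.obj (P x) = act σ (V.obj x) := fun x => by
    simp only [obj, act, image_setOf24 r, P]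
    rw [(h x x.2).1.1.2, (h x x.2).1.2]
  have hP : Function.Injective P := fun x y he => obj_injective hok (act_injective σ (by
    rw [← hobj, ← hobj, he]))
  let f : Fin V.m × ZMod V.n → Fin V.m × ZMod V.n :=
    fun p => (P p.1, (D.shift p.1 : ZMod V.n) + p.2)
  have hf : Function.Injective f := by
    rintro ⟨x, a⟩ ⟨y, b⟩ he
    simp only [f, Prod.mk.injEq] at he
    obtain rfl := hP he.1
    rw [add_left_cancel he.2]
  let π : Equiv.Perm (Fin V.m × ZMod V.n) :=
    Equiv.ofBijective f (Finite.injective_iff_bijective.mp hf)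
  refine ⟨⟨(⟨σ, hσ⟩, π), fun x a => ?_, fun x => hobj x, fun x j hj y hy => ?_⟩, rfl,
    fun x a => ⟨rfl, rfl⟩⟩
  · change f (x, a) = ((f (x, 0)).1, (f (x, 0)).2 + a)
    simp [f]
  · obtain ⟨⟨h1, h2⟩, h3⟩ := (h x x.2).2 j hj
    refine ⟨_, h1, ?_, ?_⟩
    · change _ = D.img y.1
      rw [hy]; exact h2
    · change _ + ((D.shift x.1 : ZMod V.n) + 0) = _ + ((D.shift y.1 : ZMod V.n) + 0)
      rw [hy, add_zero, add_zero]
      have := (ZMod.natCast_eq_natCast_iff' _ _ V.n).2 h3
      rw [Nat.cast_add, Nat.cast_add] at this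
      exact this

/-- A uniform shift. -/
def shiftPerm (c : ZMod V.n) : Equiv.Perm (Fin V.m × ZMod V.n) :=
  (Equiv.refl _).prodCongr (Equiv.addRight c)

theorem good_shift (c : ZMod V.n) : V.Good 1 (shiftPerm c) := by
  refine ⟨fun x a => ?_, fun x => ?_, fun x j hj y hy => ⟨j, hj, ?_, ?_⟩⟩
  · simp [shiftPerm, add_comm]
  · simp [shiftPerm, act_one]
  · simpa [shiftPerm] using hy.symm
  · simp [shiftPerm]

/-- Uniform shifts in the cover. -/
def shiftHom (V : Volt) [NeZero V.n] (H : Subgroup (Equiv.Perm GolayPt)) :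
    Multiplicative (ZMod V.n) →* ↥(V.cover H) where
  toFun c := ⟨(1, shiftPerm c.toAdd), good_shift _⟩
  map_one' := Subtype.ext (Prod.ext rfl (Equiv.ext fun p => by simp [shiftPerm]))
  map_mul' a b := Subtype.ext (Prod.ext (one_mul 1).symm (Equiv.ext fun p => by
    obtain ⟨x, a'⟩ := p
    change (x, a' + (a.toAdd + b.toAdd)) = (x, a' + b.toAdd + a.toAdd)
    rw [add_assoc, add_comm b.toAdd]))

theorem mem_ker_iff {H : Subgroup (Equiv.Perm GolayPt)} (hok : V.ok = true) {y : ↥(V.cover H)} :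
    y ∈ (V.proj H).ker ↔ y ∈ (shiftHom V H).range := by
  refine ⟨fun hy => ?_, ?_⟩
  · obtain ⟨h1, h2, h3⟩ := y.2
    have hg1 : y.1.1 = 1 := hy
    have hg : (y.1.1 : Equiv.Perm GolayPt) = 1 := by rw [hg1]; rfl
    have hfst : ∀ x, (y.1.2 (x, 0)).1 = x := fun x =>
      obj_injective hok (by rw [h2, hg, act_one])
    have hinj : ∀ (x : Fin V.m) j j', j < V.k → j' < V.k →
        nbOf (getT V.rows x.1) j = nbOf (getT V.rows x.1) j' → j = j' := by
      simp only [ok, Bool.and_eq_true, allBelow_iff, Nat.blt_eq, Bool.or_eq_true,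
        beq_iff_eq] at hok
      intro x j j' hj hj' he
      have hrow := (hok.2 x x.2).1.2
      have hmono : ∀ d i, i + d + 1 < V.k →
          nbOf (getT V.rows x.1) i < nbOf (getT V.rows x.1) (i + d + 1) := by
        intro d
        induction d with
        | zero => exact fun i hi => (hrow i (by omega)).2.resolve_left (by omega)
        | succ d ih =>
          intro i hi
          exact (ih i (by omega)).trans ((hrow _ (by omega)).2.resolve_left (by omega))
      rcases lt_trichotomy j j' with hlt | e | hlt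
      · have := hmono (j' - j - 1) j (by omega)
        rw [show j + (j' - j - 1) + 1 = j' by omega] at this
        omega
      · exact e
      · have := hmono (j - j' - 1) j' (by omega)
        rw [show j' + (j - j' - 1) + 1 = j by omega] at this
        omega
    have hm : 0 < V.m := by
      simp only [ok, Bool.and_eq_true, Nat.blt_eq] at hok
      exact hok.1.1
    have hedge : ∀ (x z : Fin V.m) j, j < V.k → z.1 = nbOf (getT V.rows x.1) j →
        (y.1.2 (x, 0)).2 = (y.1.2 (z, 0)).2 := by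
      intro x z j hj hz
      obtain ⟨j', hj', e1, e2⟩ := h3 x j hj z hz
      rw [hfst] at e1 e2
      rw [hfst] at e1
      rw [hinj x j' j hj' hj (e1.trans hz)] at e2
      exact add_left_cancel e2
    have hdesc : ∀ x : Fin V.m, x.1 ≠ 0 → ∃ j < V.k, nbOf (getT V.rows x.1) j < V.m ∧
        V.dep (nbOf (getT V.rows x.1) j) < V.dep x := by
      simp only [ok, Bool.and_eq_true, allBelow_iff, Nat.blt_eq, Bool.or_eq_true,
        beq_iff_eq] at hok
      intro x hx
      obtain ⟨hu, hd⟩ := (hok.2 x x.2).2.resolve_left hx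
      exact ⟨_, hu, ((hok.2 x x.2).1.2 _ hu).1, hd⟩
    have hconst : ∀ d (x : Fin V.m), V.dep x = d → (y.1.2 (x, 0)).2 = (y.1.2 (⟨0, hm⟩, 0)).2 := by
      intro d
      induction d using Nat.strong_induction_on with
      | _ d ih =>
        intro x hx
        by_cases h0 : x.1 = 0
        · rw [show x = ⟨0, hm⟩ from Fin.ext h0]
        obtain ⟨j, hj, hlt, hd⟩ := hdesc x h0
        rw [hedge x ⟨_, hlt⟩ j hj rfl]
        exact ih _ (hx ▸ hd) _ rfl
    refine ⟨Multiplicative.ofAdd (y.1.2 (⟨0, hm⟩, 0)).2, ?_⟩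
    refine Subtype.ext (Prod.ext hg1.symm (Equiv.ext fun p => ?_))
    obtain ⟨x, a⟩ := p
    change shiftPerm _ (x, a) = y.1.2 (x, a)
    have e : y.1.2 (x, a) = (x, (y.1.2 (⟨0, hm⟩, 0)).2 + a) := by
      rw [h1 x a, hfst x, hconst _ x rfl]
    rw [e]
    simp [shiftPerm, add_comm]
  · rintro ⟨c, rfl⟩; rfl

theorem shiftHom_injective {H : Subgroup (Equiv.Perm GolayPt)} (hok : V.ok = true) :
    Function.Injective (shiftHom V H) := by
  have hm : 0 < V.m := by
    simp only [ok, Bool.and_eq_true, Nat.blt_eq] at hok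
    exact hok.1.1
  intro a b h
  have := congrArg (fun y : ↥(V.cover H) => (y.1.2 (⟨0, hm⟩, 0)).2) h
  simpa [shiftHom, shiftPerm] using this

/-- The kernel is cyclic of order `n`. -/
noncomputable def kerEquiv {H : Subgroup (Equiv.Perm GolayPt)} (hok : V.ok = true) :
    Multiplicative (ZMod V.n) ≃* (V.proj H).ker :=
  MulEquiv.ofBijective ((shiftHom V H).codRestrict _ fun c => (mem_ker_iff hok).2 ⟨c, rfl⟩)
    ⟨fun a b h => shiftHom_injective hok (congrArg Subtype.val h),
      fun y => let ⟨c, hc⟩ := (mem_ker_iff hok).1 y.2; ⟨c, Subtype.ext hc⟩⟩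

theorem ker_le_center {H : Subgroup (Equiv.Perm GolayPt)} (hok : V.ok = true) :
    (V.proj H).ker ≤ Subgroup.center ↥(V.cover H) := by
  intro z hz
  obtain ⟨c, rfl⟩ := (mem_ker_iff hok).1 hz
  rw [Subgroup.mem_center_iff]
  intro g
  refine Subtype.ext (Prod.ext (by simp [shiftHom]) (Equiv.ext fun p => ?_))
  obtain ⟨x, a⟩ := p
  change g.1.2 (shiftPerm c.toAdd (x, a)) = shiftPerm c.toAdd (g.1.2 (x, a))
  have e : ∀ p : Fin V.m × ZMod V.n, shiftPerm c.toAdd p = (p.1, p.2 + c.toAdd) := fun p => rfl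
  rw [e, e, g.2.1 x (a + c.toAdd), g.2.1 x a]
  simp [add_assoc]

/-- Follow a word from the first object. -/
def track (V : Volt) (L : List LiftData) (w : List ℕ) : ℕ × ℕ :=
  w.foldr (fun i p => match L[i]? with
    | some D => (D.img p.1, (p.2 + D.shift p.1) % V.n)
    | none => p) (0, 0)

/-- Two words with equal values and counts and shifts differing by one. -/
def pairOK (V : Volt) (L : List LiftData) (ts : List ℕ) (uw : List ℕ × List ℕ) : Bool :=
  (uw.1 ++ uw.2).all (fun i => Nat.blt i L.length && Nat.blt i ts.length) &&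
    (List.range L.length).all (fun i => uw.1.count i == uw.2.count i) &&
    allBelow 24 (fun i => uw.1.foldr (fun a j => app (ts.getD a 0) j) i ==
      uw.2.foldr (fun a j => app (ts.getD a 0) j) i) &&
    (V.track L uw.1).1 == (V.track L uw.2).1 &&
    (V.track L uw.1).2 == ((V.track L uw.2).2 + 1) % V.n

/-- The kernel lies in the commutator subgroup. -/
theorem ker_le_commutator {H : Subgroup (Equiv.Perm GolayPt)} (hok : V.ok = true)
    {L : List LiftData} {ts : List ℕ} (hts : ∀ t ∈ ts, InGroup enc H t)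
    (hL : L.length = ts.length) (hlift : ∀ p ∈ ts.zip L, V.liftOK p.1 p.2 = true)
    {uw : List ℕ × List ℕ} (hp : V.pairOK L ts uw = true) :
    (V.proj H).ker ≤ commutator ↥(V.cover H) := by
  classical
  simp only [pairOK, Bool.and_eq_true, List.all_eq_true, List.mem_range, Nat.blt_eq, beq_iff_eq,
    allBelow_iff] at hp
  obtain ⟨⟨⟨⟨hidx, hcount⟩, hval⟩, hobj⟩, hshift⟩ := hp
  have hm : 0 < V.m := by
    simp only [ok, Bool.and_eq_true, Nat.blt_eq] at hok
    exact hok.1.1
  have hn : 1 < V.n := by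
    simp only [ok, Bool.and_eq_true, Nat.blt_eq] at hok
    exact hok.1.2
  have hex : ∀ i, ∃ y : ↥(V.cover H), ∀ D, L[i]? = some D → Rep enc y.1.1.1 (ts.getD i 0) ∧
      ∀ (x : Fin V.m) a, (y.1.2 (x, a)).1.1 = D.img x ∧
        (y.1.2 (x, a)).2 = (D.shift x : ZMod V.n) + a := by
    intro i
    rcases hD : L[i]? with _ | D
    · exact ⟨1, fun D h => by simp at h⟩
    obtain ⟨hi, hDi⟩ := List.getElem?_eq_some_iff.mp hD
    have hi' : i < ts.length := hL ▸ hi
    obtain ⟨σ, hσ, r⟩ := hts _ (List.getElem_mem hi')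
    have hmem : (ts[i], D) ∈ ts.zip L := by
      refine List.mem_iff_getElem.mpr ⟨i, by rw [List.length_zip]; omega, ?_⟩
      rw [List.getElem_zip, hDi]
    have hl := hlift (ts[i], D) hmem
    dsimp only at hl
    obtain ⟨y, hy, hyx⟩ := exists_lift (D := D) hok hσ r hl
    refine ⟨y, fun D' h => ?_⟩
    obtain rfl := (Option.some.inj h)
    rw [hy, List.getD_eq_getElem _ _ hi']
    exact ⟨r, hyx⟩
  choose y hy using hex
  have hw : ∀ w : List ℕ, (∀ i ∈ w, i < L.length) →
      (∀ p, (enc ((Schur.Pc.ev y w).1.1.1 p)).val =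
        w.foldr (fun a j => app (ts.getD a 0) j) (enc p).val) ∧
      ((Schur.Pc.ev y w).1.2 (⟨0, hm⟩, 0)).1.1 = (V.track L w).1 ∧
      ((Schur.Pc.ev y w).1.2 (⟨0, hm⟩, 0)).2 = ((V.track L w).2 : ZMod V.n) := by
    intro w hw
    induction w with
    | nil => exact ⟨fun p => rfl, rfl, by simp [track, Schur.Pc.ev_nil]⟩
    | cons i w ih =>
      obtain ⟨i1, i2, i3⟩ := ih fun a ha => hw a (List.mem_cons_of_mem _ ha)
      have hi : i < L.length := hw i List.mem_cons_self
      obtain ⟨r, hyx⟩ := hy i L[i] (List.getElem?_eq_getElem hi)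
      generalize hq : (Schur.Pc.ev y w).1.2 (⟨0, hm⟩, 0) = q at i2 i3
      obtain ⟨q1, q2⟩ := q
      have hstep : (Schur.Pc.ev y (i :: w)).1.2 (⟨0, hm⟩, 0) = (y i).1.2 (q1, q2) := by
        rw [Schur.Pc.ev_cons, ← hq]; rfl
      have htr : V.track L (i :: w) = (L[i].img (V.track L w).1,
          ((V.track L w).2 + L[i].shift (V.track L w).1) % V.n) := by
        simp only [track, List.foldr_cons, List.getElem?_eq_getElem hi]
      refine ⟨fun p => ?_, ?_, ?_⟩
      · rw [Schur.Pc.ev_cons]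
        change (enc ((y i).1.1.1 ((Schur.Pc.ev y w).1.1.1 p))).val = _
        rw [← r, i1, List.foldr_cons]
      · rw [hstep, (hyx q1 q2).1, htr]
        simp only at i2 ⊢
        rw [i2]
      · rw [hstep, (hyx q1 q2).2, htr]
        simp only at i2 i3 ⊢
        rw [i3, i2, ZMod.natCast_mod, Nat.cast_add, add_comm]
  obtain ⟨u, w⟩ := uw
  simp only at hidx hcount hval hobj hshift
  obtain ⟨u1, u2, u3⟩ := hw u fun i hi => (hidx i (List.mem_append_left _ hi)).1
  obtain ⟨w1, w2, w3⟩ := hw w fun i hi => (hidx i (List.mem_append_right _ hi)).1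
  let z := Schur.Pc.ev y u * (Schur.Pc.ev y w)⁻¹
  have hzc : z ∈ commutator ↥(V.cover H) := by
    rw [← Abelianization.ker_of, MonoidHom.mem_ker, map_mul, map_inv, mul_inv_eq_one,
      Schur.Pc.map_ev, Schur.Pc.map_ev,
      Schur.Pc.prod_eq_prod_range _ u fun i hi => (hidx i (List.mem_append_left _ hi)).1,
      Schur.Pc.prod_eq_prod_range _ w fun i hi => (hidx i (List.mem_append_right _ hi)).1]
    exact Finset.prod_congr rfl fun i hi => by rw [hcount i (Finset.mem_range.mp hi)]
  have hzk : z ∈ (V.proj H).ker := by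
    rw [MonoidHom.mem_ker, map_mul, map_inv, mul_inv_eq_one]
    refine Subtype.ext (Equiv.ext fun p => enc.injective (Fin.ext ?_))
    change (enc ((Schur.Pc.ev y u).1.1.1 p)).val = (enc ((Schur.Pc.ev y w).1.1.1 p)).val
    rw [u1, w1]
    exact hval _ (enc p).isLt
  obtain ⟨c, hc⟩ := (mem_ker_iff hok).1 hzk
  have hz1 : Schur.Pc.ev y u = shiftHom V H c * Schur.Pc.ev y w := by
    rw [hc]; exact (inv_mul_cancel_right _ _).symm
  have hc1 : c = Multiplicative.ofAdd 1 := by
    have h0 := congrArg (fun g : ↥(V.cover H) => (g.1.2 (⟨0, hm⟩, 0)).2) hz1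
    change _ = (shiftPerm c.toAdd ((Schur.Pc.ev y w).1.2 (⟨0, hm⟩, 0))).2 at h0
    rw [u3, hshift, ZMod.natCast_mod, Nat.cast_add, Nat.cast_one] at h0
    have h0' : ((V.track L w).2 : ZMod V.n) + 1 = (V.track L w).2 + c.toAdd := h0.trans (by
      rw [← w3]; rfl)
    exact Multiplicative.toAdd.injective (add_left_cancel h0').symm
  intro g hg
  obtain ⟨d, rfl⟩ := (mem_ker_iff hok).1 hg
  have hd : d = c ^ (d.toAdd.val : ℕ) := by
    rw [hc1, ← ofAdd_nsmul, nsmul_one, ZMod.natCast_zmod_val]
    rfl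
  rw [hd, map_pow, hc]
  exact pow_mem hzc _

end Volt

end CfsgLib.MTwentyTwoCover
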